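import Cfsg.Agent.Lib.Helper11.Suzc1.D0
import Cfsg.Agent.Lib.Helper11.Words

set_option autoImplicit false
set_option maxRecDepth 100000

namespace Cfsg.Agent.Lib.Helper11.Suzc1

noncomputable def fc (i : ℕ) : ℕ := fc0_0 i
noncomputable def sc (i : ℕ) : ℕ := sc0_0 i
noncomputable def nc (i : ℕ) : ℕ := nc0_0 i
noncomputable def cc (i : ℕ) : ℕ := cc0_0 i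

noncomputable def INV : ℕ := 172066848
def isH (l : ℕ) : Bool := decide (l ∈ [1, 2, 3, 4])
def gens : List ℕ := [1, 2, 3, 4, 5]
def rt : RT := (.node 8 (.node 4 (.node 2 (.node 1 (.leaf 14 0 [2, 4, 2, 4]) (.leaf 9 0 [1, 4, 1, 4])) (.node 3 (.leaf 1 0 [1, 1]) (.leaf 3 0 [3, 3]))) (.node 6 (.node 5 (.leaf 8 0 [1, 3, 1, 3]) (.leaf 4 0 [4, 4])) (.node 7 (.leaf 2 0 [2, 2]) (.leaf 15 0 [2, 5, 2, 5])))) (.node 15 (.node 12 (.node 10 (.node 9 (.leaf 25 1 [5, 4, 5, 4, 5, 4]) (.leaf 20 0 [3, 5, 3, 5])) (.node 11 (.leaf 10 0 [1, 5, 1, 5]) (.leaf 13 1 [3, 2, 3, 2, 3, 2]))) (.node 14 (.node 13 (.leaf 31 2 [3, 4, 3, 4, 3, 4, 3, 1, 4]) (.leaf 5 0 [5, 5])) (.leaf 20 1 [5, 3, 5, 3]))) (.node 20 (.node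 18 (.node 17 (.node 16 (.leaf 15 1 [5, 2, 5, 2]) (.leaf 13 0 [2, 3, 2, 3, 2, 3])) (.leaf 10 1 [5, 1, 5, 1])) (.node 19 (.leaf 8 1 [3, 1, 3, 1]) (.leaf 25 0 [4, 5, 4, 5, 4, 5]))) (.node 24 (.node 22 (.node 21 (.leaf 7 1 [2, 1, 2, 1, 2, 1, 2, 1, 2, 1]) (.leaf 14 1 [4, 2, 4, 2])) (.node 23 (.leaf 9 1 [4, 1, 4, 1]) (.leaf 31 3 [4, 3, 4, 3, 4, 3, 1, 4, 3]))) (.node 29 (.node 26 (.node 25 (.leaf 7 0 [1, 2, 1, 2, 1, 2, 1, 2, 1, 2]) (.leaf 0 0 [])) (.node 28 (.node 27 (.leaf 31 7 [4, 3, 1, 4, 3, 4, 3, 4, 3]) (.leaf 31 0 [1, 4, 3, 4, 3, 4, 3, 4, 3])) (.leaf 32 6 [3, 4, 3, 4, 2, 3, 4, 3, 4, 2, 3, 4, 3, 4, 2, 3, 4, 3, 4, 5, 2, 3, 4, 3, 4, 2, 3, 4, 3, 4, 2, 3, 4, 3, 4, 2, 3, 4, 3, 4, 2, 3, 4,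 3, 4, 5, 2, 3, 4, 3, 4, 2, 3, 4, 3, 4, 2, 3, 4, 3, 4, 2, 3, 4, 3, 4, 2, 3, 4, 3, 4, 5, 2, 3, 4, 3, 4, 2]))) (.node 34 (.node 32 (.node 31 (.node 30 (.leaf 31 8 [3, 1, 4, 3, 4, 3, 4, 3, 4]) (.leaf 32 1 [3, 4, 3, 4, 2, 3, 4, 3, 4, 2, 3, 4, 3, 4, 2, 3, 4, 3, 4, 2, 3, 4, 3, 4, 5, 2, 3, 4, 3, 4, 2, 3, 4, 3, 4, 2, 3, 4, 3, 4, 2, 3, 4, 3, 4, 2, 3, 4, 3, 4, 5, 2, 3, 4, 3, 4, 2, 3, 4, 3, 4, 2, 3, 4, 3, 4, 2, 3, 4, 3, 4, 2, 3, 4, 3, 4, 5, 2])) (.leaf 31 6 [3, 4, 3, 1, 4, 3, 4, 3, 4])) (.node 33 (.leaf 32 16 [3, 4, 3, 4, 2, 3, 4, 3, 4, 5, 2, 3, 4, 3, 4, 2, 3, 4, 3, 4, 2, 3, 4, 3, 4, 2, 3, 4, 3, 4, 2, 3, 4, 3, 4, 5, 2, 3, 4, 3, 4, 2, 3, 4, 3, 4, 2, 3, 4, 3, 4, 2, 3, 4, 3, 4, 2, 3, 4, 3, 4, 5,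 2, 3, 4, 3, 4, 2, 3, 4, 3, 4, 2, 3, 4, 3, 4, 2]) (.leaf 32 17 [4, 3, 4, 2, 3, 4, 3, 4, 5, 2, 3, 4, 3, 4, 2, 3, 4, 3, 4, 2, 3, 4, 3, 4, 2, 3, 4, 3, 4, 2, 3, 4, 3, 4, 5, 2, 3, 4, 3, 4, 2, 3, 4, 3, 4, 2, 3, 4, 3, 4, 2, 3, 4, 3, 4, 2, 3, 4, 3, 4, 5, 2, 3, 4, 3, 4, 2, 3, 4, 3, 4, 2, 3, 4, 3, 4, 2, 3]))) (.node 37 (.node 36 (.node 35 (.leaf 31 1 [4, 3, 4, 3, 4, 3, 4, 3, 1]) (.leaf 32 2 [4, 3, 4, 2, 3, 4, 3, 4, 2, 3, 4, 3, 4, 2, 3, 4, 3, 4, 2, 3, 4, 3, 4, 5, 2, 3, 4, 3, 4, 2, 3, 4, 3, 4, 2, 3, 4, 3, 4, 2, 3, 4, 3, 4, 2, 3, 4, 3, 4, 5, 2, 3, 4, 3, 4, 2, 3, 4, 3, 4, 2, 3, 4, 3, 4, 2, 3, 4, 3, 4, 2, 3, 4, 3, 4, 5, 2, 3])) (.leaf 32 9 [4, 2, 3, 4, 3, 4, 2, 3, 4, 3, 4, 2, 3, 4, 3, 4, 5, 2, 3,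 4, 3, 4, 2, 3, 4, 3, 4, 2, 3, 4, 3, 4, 2, 3, 4, 3, 4, 2, 3, 4, 3, 4, 5, 2, 3, 4, 3, 4, 2, 3, 4, 3, 4, 2, 3, 4, 3, 4, 2, 3, 4, 3, 4, 2, 3, 4, 3, 4, 5, 2, 3, 4, 3, 4, 2, 3, 4, 3])) (.node 38 (.leaf 31 4 [3, 4, 3, 4, 3, 1, 4, 3, 4]) (.leaf 32 3 [3, 4, 2, 3, 4, 3, 4, 2, 3, 4, 3, 4, 2, 3, 4, 3, 4, 2, 3, 4, 3, 4, 5, 2, 3, 4, 3, 4, 2, 3, 4, 3, 4, 2, 3, 4, 3, 4, 2, 3, 4, 3, 4, 2, 3, 4, 3, 4, 5, 2, 3, 4, 3, 4, 2, 3, 4, 3, 4, 2, 3, 4, 3, 4, 2, 3, 4, 3, 4, 2, 3, 4, 3, 4, 5, 2, 3, 4])))))))))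


end Cfsg.Agent.Lib.Helper11.Suzc1
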